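import Mathlib.RingTheory.TensorProduct.Free
import Mathlib.RingTheory.Flat.Basic
import Mathlib.RingTheory.Nakayama
import Mathlib.LinearAlgebra.Dual.Lemmas
import Mathlib.LinearAlgebra.TensorProduct.RightExactness
import Mathlib.RingTheory.Ideal.Quotient.Basic
import Mathlib.Tactic
import Groth.Agent.Fdesc.TensorDomain

/-!
# Regular elements of `R ⊗[k] A`, `k` algebraically closed, `A` a domain

* `exists_maximal_forall_mul_ne_zero`: a nonzero `z : R ⊗[k] A` has a maximal ideal `q` of `R` such that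
  `g * z ≠ 0` for every `g` whose image in `(R ⧸ q) ⊗[k] A` is nonzero.
* `mem_map_of_mul_mem_map`: if `f : R ⊗[k] A` has nonzero image in `(R ⧸ q) ⊗[k] A` for every maximal `q`,
  then `f * x ∈ J (R ⊗ A)` implies `x ∈ J (R ⊗ A)` for every ideal `J` of `R`.
-/

set_option autoImplicit false

universe u

namespace K94.FibreReg

open TensorProduct

variable {k A R : Type u} [Field k] [CommRing A] [Algebra k A] [CommRing R] [Algebra k R]

/-- reduction modulo an ideal of `R` -/
noncomputable def red (A : Type u) [CommRing A] [Algebra k A] (J : Ideal R) :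
    (R ⊗[k] A) →ₐ[k] ((R ⧸ J) ⊗[k] A) :=
  Algebra.TensorProduct.map (Ideal.Quotient.mkₐ k J) (AlgHom.id k A)

@[simp] theorem red_tmul (J : Ideal R) (r : R) (a : A) :
    red A J (r ⊗ₜ[k] a) = (Ideal.Quotient.mk J r) ⊗ₜ[k] a := rfl

theorem red_surjective (J : Ideal R) : Function.Surjective (red (k := k) A J) :=
  TensorProduct.map_surjective Ideal.Quotient.mk_surjective Function.surjective_id

theorem red_eq_zero_iff (J : Ideal R) (x : R ⊗[k] A) :
    red A J x = 0 ↔ x ∈ J.map (algebraMap R (R ⊗[k] A)) := by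
  have h := Algebra.TensorProduct.rTensor_ker (R := k) (S := k) (C := A) (Ideal.Quotient.mkₐ k J)
    (Ideal.Quotient.mkₐ_surjective k J)
  have h2 : red A J x = 0 ↔ x ∈ RingHom.ker (Algebra.TensorProduct.map (Ideal.Quotient.mkₐ k J) (AlgHom.id k A)) := Iff.rfl
  have h3 : RingHom.ker (Ideal.Quotient.mkₐ k J) = J := by
    ext y
    rw [RingHom.mem_ker]
    exact Ideal.Quotient.eq_zero_iff_mem
  rw [h2, h, h3]
  rfl

/-- lifting of multiplication to `C ⊗ A` -/
theorem exists_lift_mul (C : Ideal R) (q : Ideal R) (Λ : C →ₗ[R] (R ⧸ q)) (g : R ⊗[k] A) :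
    ∃ L : (C ⊗[k] A) →ₗ[k] (C ⊗[k] A),
      (∀ w, LinearMap.rTensor A ((Submodule.subtype C).restrictScalars k) (L w) =
        g * LinearMap.rTensor A ((Submodule.subtype C).restrictScalars k) w) ∧
      (∀ w, LinearMap.rTensor A (Λ.restrictScalars k) (L w) =
        red A q g * LinearMap.rTensor A (Λ.restrictScalars k) w) := by
  induction g using TensorProduct.induction_on with
  | zero => exact ⟨0, fun w => by simp, fun w => by simp⟩
  | tmul ρ a =>
    refine ⟨TensorProduct.map ((ρ • (LinearMap.id : C →ₗ[R] C)).restrictScalars k)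
      (LinearMap.mulLeft k a), fun w => ?_, fun w => ?_⟩
    · induction w using TensorProduct.induction_on with
      | zero => simp
      | tmul c b => simp
      | add x y hx hy => simp only [map_add, mul_add, hx, hy]
    · induction w using TensorProduct.induction_on with
      | zero => simp
      | tmul c b =>
        simp [Algebra.smul_def]
      | add x y hx hy => simp only [map_add, mul_add, hx, hy]
  | add x y hx hy =>
    obtain ⟨L₁, h₁, h₁'⟩ := hx
    obtain ⟨L₂, h₂, h₂'⟩ := hy
    refine ⟨L₁ + L₂, fun w => ?_, fun w => ?_⟩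
    · rw [LinearMap.add_apply, map_add, h₁, h₂, add_mul]
    · rw [LinearMap.add_apply, map_add, h₁', h₂', map_add, add_mul]

theorem exists_maximal_forall_mul_ne_zero [IsAlgClosed k] [IsDomain A] (z : R ⊗[k] A) (hz : z ≠ 0) :
    ∃ q : Ideal R, q.IsMaximal ∧ ∀ g : R ⊗[k] A, red A q g ≠ 0 → g * z ≠ 0 := by
  classical
  let b := Module.Free.chooseBasis k A
  let B := Algebra.TensorProduct.basis R b
  let C : Ideal R := Ideal.span ((B.repr z).support.image (B.repr z) : Set R)
  have hCfg : (C : Submodule R R).FG := ⟨(B.repr z).support.image (B.repr z), rfl⟩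
  have hmem : ∀ i, B.repr z i ∈ C := by
    intro i
    by_cases hi : B.repr z i = 0
    · rw [hi]; exact C.zero_mem
    · exact Ideal.subset_span (Finset.mem_coe.2 (Finset.mem_image_of_mem _ (Finsupp.mem_support_iff.2 hi)))
  have hC0 : C ≠ ⊥ := by
    intro h0
    apply hz
    apply B.repr.injective
    rw [map_zero]
    ext i
    have := hmem i
    rw [h0] at this
    simpa using this
  have hann : Module.annihilator R C ≠ ⊤ := by
    intro h
    rw [Module.annihilator_eq_top_iff] at h
    exact hC0 ((Submodule.subsingleton_iff_eq_bot).1 h)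
  obtain ⟨q, hq, hqC⟩ := Ideal.exists_le_maximal _ hann
  have hnak : ¬ (C : Submodule R R) ≤ q • (C : Submodule R R) := by
    intro hle
    obtain ⟨r, hr1, hr2⟩ := Submodule.exists_sub_one_mem_and_smul_eq_zero_of_fg_of_le_smul q C hCfg hle
    have hr : r ∈ q := by
      apply hqC
      rw [Module.mem_annihilator]
      intro c
      exact Subtype.ext (hr2 c.1 c.2)
    apply hq.ne_top
    rw [Ideal.eq_top_iff_one]
    have := q.sub_mem hr hr1
    simpa using this
  obtain ⟨i₀, hi₀⟩ : ∃ i₀, B.repr z i₀ ∉ q • (C : Submodule R R) := by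
    by_contra hcon
    push Not at hcon
    apply hnak
    refine Ideal.span_le.2 ?_
    intro x hx
    obtain ⟨i, -, rfl⟩ := Finset.mem_image.1 (Finset.mem_coe.1 hx)
    exact hcon i
  refine ⟨q, hq, ?_⟩
  let _ : Field (R ⧸ q) := Ideal.Quotient.field q
  let v : C ⧸ (q • ⊤ : Submodule R C) := Submodule.Quotient.mk ⟨B.repr z i₀, hmem i₀⟩
  have hv : v ≠ 0 := by
    intro h0
    rw [Submodule.Quotient.mk_eq_zero] at h0
    apply hi₀
    have h1 : C.subtype (⟨B.repr z i₀, hmem i₀⟩ : C) ∈ Submodule.map (Submodule.subtype C) (q • ⊤ : Submodule R C) :=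
      Submodule.mem_map_of_mem h0
    rw [Submodule.map_smul'', Submodule.map_subtype_top] at h1
    exact h1
  obtain ⟨φ, hφ⟩ := Module.Projective.exists_dual_ne_zero (R ⧸ q) hv
  let Λ : C →ₗ[R] (R ⧸ q) := (φ.restrictScalars R) ∘ₗ (Submodule.mkQ _)
  have hΛ : Λ ⟨B.repr z i₀, hmem i₀⟩ ≠ 0 := hφ
  let w : C ⊗[k] A := ∑ i ∈ (B.repr z).support, (⟨B.repr z i, hmem i⟩ : C) ⊗ₜ[k] b i
  have hw1 : LinearMap.rTensor A ((Submodule.subtype C).restrictScalars k) w = z := by
    have h1 : z = ∑ i ∈ (B.repr z).support, B.repr z i • B i := by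
      conv_lhs => rw [← B.linearCombination_repr z, Finsupp.linearCombination_apply, Finsupp.sum]
    rw [map_sum]
    conv_rhs => rw [h1]
    refine Finset.sum_congr rfl fun i _ => ?_
    rw [Algebra.TensorProduct.basis_apply, TensorProduct.smul_tmul', smul_eq_mul, mul_one]
    rfl
  have hw2 : LinearMap.rTensor A (Λ.restrictScalars k) w ≠ 0 := by
    intro h0
    apply hΛ
    have h1 : (Algebra.TensorProduct.basis (R ⧸ q) b).repr
        (LinearMap.rTensor A (Λ.restrictScalars k) w) i₀ = Λ ⟨B.repr z i₀, hmem i₀⟩ := by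
      rw [map_sum, map_sum, Finsupp.finsetSum_apply]
      have h2 : ∀ i ∈ (B.repr z).support, (((Algebra.TensorProduct.basis (R ⧸ q) b).repr
          (LinearMap.rTensor A (Λ.restrictScalars k) ((⟨B.repr z i, hmem i⟩ : C) ⊗ₜ[k] b i))) i₀)
          = if i = i₀ then Λ ⟨B.repr z i, hmem i⟩ else 0 := by
        intro i _
        rw [LinearMap.rTensor_tmul, Algebra.TensorProduct.basis_repr_tmul]
        simp [Finsupp.single_apply]
      rw [Finset.sum_congr rfl h2, Finset.sum_ite_eq']
      split_ifs with h3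
      · rfl
      · have h4 : B.repr z i₀ = 0 := by simpa using h3
        have h5 : (⟨B.repr z i₀, hmem i₀⟩ : C) = 0 := Subtype.ext h4
        rw [h5, map_zero]
    rw [← h1, h0, map_zero]
    rfl
  intro g hg hgz
  obtain ⟨L, hL1, hL2⟩ := exists_lift_mul C q Λ g
  have h1 := hL1 w
  rw [hw1, hgz] at h1
  have hinj : Function.Injective (LinearMap.rTensor A ((Submodule.subtype C).restrictScalars k)) :=
    Module.Flat.rTensor_preserves_injective_linearMap _ Subtype.val_injective
  have h2 : L w = 0 := hinj (by rw [h1, map_zero])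
  have h3 := hL2 w
  rw [h2, map_zero] at h3
  have := Groth.Agent.Fdesc.TensorDomain.isDomain_tensorProduct (k := k) (A := R ⧸ q) (B := A)
  rcases mul_eq_zero.1 h3.symm with h4 | h4
  · exact hg h4
  · exact hw2 h4

theorem mem_map_of_mul_mem_map [IsAlgClosed k] [IsDomain A] (f : R ⊗[k] A)
    (hf : ∀ q : Ideal R, q.IsMaximal → red A q f ≠ 0) (J : Ideal R) (x : R ⊗[k] A)
    (hx : f * x ∈ J.map (algebraMap R (R ⊗[k] A))) : x ∈ J.map (algebraMap R (R ⊗[k] A)) := by
  rw [← red_eq_zero_iff] at hx ⊢
  rw [map_mul] at hx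
  by_contra hcon
  obtain ⟨q', hq', H⟩ := exists_maximal_forall_mul_ne_zero (red A J x) hcon
  refine H (red A J f) ?_ hx
  intro h0
  have hq : (q'.comap (Ideal.Quotient.mk J)).IsMaximal :=
    Ideal.comap_isMaximal_of_surjective _ Ideal.Quotient.mk_surjective
  refine hf _ hq ?_
  have hsur : Function.Surjective ((Ideal.Quotient.mk q').comp (Ideal.Quotient.mk J)) :=
    Ideal.Quotient.mk_surjective.comp Ideal.Quotient.mk_surjective
  let e : (R ⧸ q'.comap (Ideal.Quotient.mk J)) →ₐ[k] ((R ⧸ J) ⧸ q') :=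
    Ideal.Quotient.liftₐ _ ((Ideal.Quotient.mkₐ k q').comp (Ideal.Quotient.mkₐ k J)) (by
      intro a ha
      exact Ideal.Quotient.eq_zero_iff_mem.2 ha)
  have he : Function.Injective e := by
    rw [injective_iff_map_eq_zero]
    intro a ha
    obtain ⟨a, rfl⟩ := Ideal.Quotient.mk_surjective a
    have h1 : Ideal.Quotient.mk q' (Ideal.Quotient.mk J a) = 0 := ha
    rw [Ideal.Quotient.eq_zero_iff_mem] at h1 ⊢
    exact h1
  have hinj : Function.Injective (Algebra.TensorProduct.map e (AlgHom.id k A)) :=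
    Module.Flat.rTensor_preserves_injective_linearMap (M := A) e.toLinearMap he
  apply hinj
  rw [map_zero]
  rw [← h0]
  have hcomp : (Algebra.TensorProduct.map e (AlgHom.id k A)).comp (red (k := k) A (q'.comap (Ideal.Quotient.mk J))) =
      (red (k := k) A q').comp (red (k := k) A J) := by
    apply Algebra.TensorProduct.ext'
    intro a b
    rfl
  exact DFunLike.congr_fun hcomp f

theorem mem_open_red (U : TopologicalSpace.Opens (PrimeSpectrum (TensorProduct k R A)))
    (q : PrimeSpectrum R) (hq : (RingHom.ker (red (k := k) A q.asIdeal)).IsPrime)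
    (h : ∃ P ∈ U,
      PrimeSpectrum.comap (Algebra.TensorProduct.includeLeftRingHom : R →+* TensorProduct k R A) P = q) :
    (⟨RingHom.ker (red (k := k) A q.asIdeal), hq⟩ : PrimeSpectrum (TensorProduct k R A)) ∈ U := by
  obtain ⟨P', hP', hP'q⟩ := h
  have hle : (⟨RingHom.ker (red (k := k) A q.asIdeal), hq⟩ : PrimeSpectrum (TensorProduct k R A)) ≤ P' := by
    intro x hx
    have hx' : red A q.asIdeal x = 0 := hx
    rw [red_eq_zero_iff] at hx'
    have hmap : q.asIdeal.map (algebraMap R (TensorProduct k R A)) ≤ P'.asIdeal := by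
      rw [Ideal.map_le_iff_le_comap]
      intro y hy
      rw [← hP'q] at hy
      exact hy
    exact hmap hx'
  exact ((PrimeSpectrum.le_iff_specializes _ _).1 hle).mem_open U.2 hP'

theorem repr_map {R' : Type u} [CommRing R'] [Algebra k R'] (φ : R →ₐ[k] R') {ι : Type*}
    (b : Module.Basis ι k A) (x : R ⊗[k] A) (i : ι) :
    (Algebra.TensorProduct.basis R' b).repr (Algebra.TensorProduct.map φ (AlgHom.id k A) x) i =
      φ ((Algebra.TensorProduct.basis R b).repr x i) := by
  induction x using TensorProduct.induction_on with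
  | zero => simp
  | tmul r a =>
    simp [Algebra.TensorProduct.basis_repr_tmul]
  | add x y hx hy => simp only [map_add, Finsupp.add_apply, hx, hy]

end K94.FibreReg
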